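/-
`J ∩ Rⁿ` for `R` generated by a sequence regular on `A/J`.
-/
import Groth.Agent.KoszulLib.H1Quasi
import Groth.Agent.KoszulLib.Kinds
import Groth.Agent.RegLoc.QuasiRegular
import Mathlib

universe u

open RingTheory.Sequence MvPolynomial

namespace Groth.Agent.QReg16Inf

theorem isQuasiRegular_of_isWeaklyRegular {T : Type u} [CommRing T] {r : ℕ} (g : Fin r → T)
    (h : IsWeaklyRegular T (List.ofFn g)) : CAlgX.IsQuasiRegular g :=
  KoszulLib.isQuasiRegular_of_h1 (KoszulLib.isH1Regular_of_acyclic (KoszulLib.acyclic_of_isWeaklyRegular' h))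

theorem step {A : Type u} [CommRing A] (J : Ideal A) {r : ℕ} (f : Fin r → A)
    (hf : IsWeaklyRegular (A ⧸ J) (List.ofFn f)) (n : ℕ) :
    J ⊓ Ideal.span (Set.range f) ^ n ≤
      J * Ideal.span (Set.range f) ^ n ⊔ J ⊓ Ideal.span (Set.range f) ^ (n + 1) := by
  set R := Ideal.span (Set.range f) with hR
  rintro x ⟨hxJ, hxR⟩
  obtain ⟨G, hG, hx⟩ := RegLoc.exists_homogeneous_eval f n hxR
  let π := Ideal.Quotient.mk J
  have hq : CAlgX.IsQuasiRegular (π ∘ f) := by
    refine isQuasiRegular_of_isWeaklyRegular _ ?_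
    rw [← List.map_ofFn]
    exact (isWeaklyRegular_map_algebraMap_iff (A ⧸ J) (A ⧸ J) (List.ofFn f)).mpr hf
  have hGn : (MvPolynomial.map π G).IsHomogeneous n := hG.map π
  have hev : MvPolynomial.eval (π ∘ f) (MvPolynomial.map π G) = 0 := by
    rw [MvPolynomial.eval_map]
    have : MvPolynomial.eval₂ π (π ∘ f) G = π (MvPolynomial.eval f G) :=
      (MvPolynomial.eval₂_comp (f := π) f G).symm
    rw [this, hx]
    exact Ideal.Quotient.eq_zero_iff_mem.mpr hxJ
  have hcoef : ∀ d, G.coeff d ∈ J ⊔ R := fun d => by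
    have h1 := hq n _ hGn (hev ▸ zero_mem _) d
    rw [MvPolynomial.coeff_map, Set.range_comp, ← Ideal.map_span, ← hR, Ideal.mem_map_iff_of_surjective _
      Ideal.Quotient.mk_surjective] at h1
    obtain ⟨c, hc, hc'⟩ := h1
    rw [Ideal.Quotient.mk_eq_mk_iff_sub_mem] at hc'
    rw [show G.coeff d = -(c - G.coeff d) + c by ring]
    exact add_mem (Ideal.mem_sup_left (J.neg_mem hc')) (Ideal.mem_sup_right hc)
  have hmem : x ∈ J * R ^ n ⊔ R ^ (n + 1) := by
    rw [← hx, MvPolynomial.eval_eq']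
    refine Submodule.sum_mem _ fun d hd => ?_
    have hmon : ∏ i, f i ^ d i ∈ R ^ n := by
      have hdeg : ∑ i, d i = n := by
        have := hG (MvPolynomial.mem_support_iff.mp hd)
        rw [← this, Finsupp.weight_apply, Finsupp.sum_fintype _ _ (fun i => by simp)]
        simp
      rw [← hdeg, ← Finset.prod_pow_eq_pow_sum]
      exact Ideal.prod_mem_prod fun i _ => Ideal.pow_mem_pow (Ideal.subset_span (Set.mem_range_self i)) _
    have := Ideal.mul_mem_mul (hcoef d) hmon
    rw [Ideal.sup_mul, ← pow_succ'] at this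
    exact this
  obtain ⟨a, ha, b, hb, rfl⟩ := Submodule.mem_sup.mp hmem
  refine Submodule.add_mem_sup ha ⟨?_, hb⟩
  have h2 := J.sub_mem hxJ (Ideal.mul_le_left ha)
  rwa [add_sub_cancel_left] at h2

theorem inf_pow_eq {A : Type u} [CommRing A] (J : Ideal A) {r : ℕ} (f : Fin r → A)
    (hf : IsWeaklyRegular (A ⧸ J) (List.ofFn f)) (n N : ℕ) (hnN : n ≤ N) :
    J ⊓ Ideal.span (Set.range f) ^ n =
      J * Ideal.span (Set.range f) ^ n ⊔ J ⊓ Ideal.span (Set.range f) ^ N := by
  refine le_antisymm ?_ (sup_le (le_inf Ideal.mul_le_left Ideal.mul_le_right)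
    (inf_le_inf_left _ (Ideal.pow_le_pow_right hnN)))
  induction hnN with
  | refl => exact le_sup_right
  | @step k hk ih =>
    refine ih.trans (sup_le le_sup_left ((step J f hf k).trans (sup_le ?_ le_sup_right)))
    exact (Ideal.mul_mono_right (Ideal.pow_le_pow_right hk)).trans le_sup_left

theorem inf_pow_eq_mul {A : Type u} [CommRing A] [IsNoetherianRing A] (J : Ideal A) {r : ℕ} (f : Fin r → A)
    (hf : IsWeaklyRegular (A ⧸ J) (List.ofFn f)) (n : ℕ) :
    J ⊓ Ideal.span (Set.range f) ^ n = J * Ideal.span (Set.range f) ^ n := by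
  refine le_antisymm ?_ (le_inf Ideal.mul_le_left Ideal.mul_le_right)
  obtain ⟨k, hk⟩ := Ideal.exists_pow_inf_eq_pow_smul (Ideal.span (Set.range f)) (M := A) J
  have h := hk (n + k) (Nat.le_add_left k n)
  simp only [smul_eq_mul, Ideal.mul_top, Nat.add_sub_cancel] at h
  rw [inf_pow_eq J f hf n (n + k) (Nat.le_add_right n k), inf_comm J, h]
  refine sup_le le_rfl ?_
  rw [mul_comm J]
  exact Ideal.mul_mono_right inf_le_right

end Groth.Agent.QReg16Inf
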